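import Groth.Agent.DispRigid.Lift

/-!
# Lifting homomorphisms of displays along a surjection with nilpotent kernel
-/

set_option autoImplicit false
set_option linter.style.haveILetI false
universe u v w w'

namespace Groth.Agent.DispRigid

open WittVector DispTwenty

variable {p : ℕ} [hp : Fact p.Prime]

theorem bc_isRed {R R₁ : Type u} [CommRing R] [CommRing R₁] {f : R →+* R₁} (hf : Function.Surjective f)
    {P : Type v} [AddCommGroup P] [Module (WittVector p R) P] {D : W4c1extbt610.Display3n p R P}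
    {DR : W4c1extbt610.Display3n p R₁ (Dieu.BC (WittVector.map f : WittVector p R →+* WittVector p R₁) P)}
    (hDR : Dieu.IsDispBaseChange f D DR) :
    IsRed f D DR (Dieu.BC.ι (WittVector.map f : WittVector p R →+* WittVector p R₁) P) := by
  haveI := D.finite
  haveI := D.projective
  obtain ⟨S⟩ := exists_split D
  obtain ⟨r, π, s, h⟩ := exists_coords (WittVector p R) P
  have hφ := WittVector.map_surjective (p := p) f hf
  have hm : ∀ y, y ∈ D.Q → Dieu.BC.ι (WittVector.map f : WittVector p R →+* WittVector p R₁) P y ∈ DR.Q := fun y hy => by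
    rw [Dieu.BC.ι_apply, hDR.Q_eq]; exact tmul_mem_ker f 1 hy
  refine ⟨fun z => ?_, fun x hx => ?_, fun x hx => ?_, hm, fun y => ?_, fun x => ?_⟩
  · choose c hc using fun j => hφ (coord (WittVector.map f : WittVector p R →+* WittVector p R₁) s z j)
    refine ⟨∑ j, c j • gen π j, ?_⟩
    simp only [map_sum, map_smulₛₗ, Dieu.BC.ι_apply, hc]
    exact sum_coord (WittVector.map f : WittVector p R →+* WittVector p R₁) h z
  · rw [← sum_smul_gen h x]
    refine Submodule.sum_mem _ fun j _ => Submodule.smul_mem_smul ?_ Submodule.mem_top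
    rw [Dieu.BC.ι_apply] at hx
    have := coord_tmul (WittVector.map f : WittVector p R →+* WittVector p R₁) s 1 x j
    rw [hx, map_zero, one_mul] at this
    exact RingHom.mem_ker.2 this.symm
  · rw [hDR.Q_eq] at hx
    obtain ⟨a, b, hab⟩ := exists_decomp f S h hx
    choose a' ha using fun j => hφ (a j)
    choose b' hb using fun j => hφ (b j)
    refine ⟨∑ j, a' j • S.πL (gen π j) + ∑ j, verschiebung (b' j) • gen π j,
      add_mem (Submodule.sum_mem _ fun j _ => D.Q.smul_mem _ (S.memQ _))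
        (Submodule.sum_mem _ fun j _ => mem_Q_smul D (W4c1extbt610.verschiebung_mem_IV p R _) _), ?_⟩
    rw [hab]
    simp only [map_add, map_sum, map_smulₛₗ, Dieu.BC.ι_apply]
    congr 1
    · exact Finset.sum_congr rfl fun j _ => by rw [ha]
    · refine Finset.sum_congr rfl fun j _ => ?_
      rw [← Dieu.BC.tmul_eq_smul_tmul_one, WittVector.map_verschiebung, hb]
  · have h1 := hDR.Vinv_tmul 1 y (by rw [← Dieu.BC.ι_apply]; exact hm _ y.2)
    rw [map_one] at h1
    rw [Dieu.BC.ι_apply, ← h1]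
    rfl
  · have h1 := hDR.F_tmul 1 x
    rw [map_one] at h1
    simp only [Dieu.BC.ι_apply, h1]

/-- If `u = u₂ ∘ u₁` and `u₁`, `u` are reductions, so is `u₂`. -/
theorem IsRed.descend {R M R₁ : Type u} [CommRing R] [CommRing M] [CommRing R₁]
    {g : R →+* R₁} {g₁ : R →+* M} {g₂ : M →+* R₁} (hg : g₂.comp g₁ = g)
    {P : Type v} {PM : Type w} {P₁ : Type w'} [AddCommGroup P] [Module (WittVector p R) P]
    [AddCommGroup PM] [Module (WittVector p M) PM] [AddCommGroup P₁] [Module (WittVector p R₁) P₁]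
    {D : W4c1extbt610.Display3n p R P} {DM : W4c1extbt610.Display3n p M PM}
    {D₁ : W4c1extbt610.Display3n p R₁ P₁}
    {u₁ : P →ₛₗ[(WittVector.map g₁ : WittVector p R →+* WittVector p M)] PM}
    {u : P →ₛₗ[(WittVector.map g : WittVector p R →+* WittVector p R₁)] P₁}
    (h₁ : IsRed g₁ D DM u₁) (hu : IsRed g D D₁ u)
    (u₂ : PM →ₛₗ[(WittVector.map g₂ : WittVector p M →+* WittVector p R₁)] P₁) (h : ∀ x, u₂ (u₁ x) = u x) :
    IsRed g₂ DM D₁ u₂ := by
  have hm : ∀ z, z ∈ DM.Q → u₂ z ∈ D₁.Q := fun z hz => by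
    obtain ⟨x, rfl⟩ := h₁.surj z
    obtain ⟨y, hy, e⟩ := h₁.exists_mem x hz
    rw [e, h]
    exact hu.map_mem y hy
  refine ⟨fun z => ?_, fun z hz => ?_, fun z hz => ?_, hm, fun z => ?_, fun z => ?_⟩
  · obtain ⟨x, rfl⟩ := hu.surj z
    exact ⟨u₁ x, h x⟩
  · obtain ⟨x, rfl⟩ := h₁.surj z
    rw [h] at hz
    refine Submodule.smul_induction_on (hu.mem_of_eq_zero x hz) (fun c hc y _ => ?_) (fun a b ha hb => ?_)
    · rw [map_smulₛₗ]
      refine Submodule.smul_mem_smul (RingHom.mem_ker.2 ?_) Submodule.mem_top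
      rw [← RingHom.mem_ker.1 hc]
      exact WittVector.ext fun n => by simp [← hg]
    · rw [map_add]; exact add_mem ha hb
  · obtain ⟨x, rfl⟩ := h₁.surj z
    rw [h] at hz
    obtain ⟨y, hy, e⟩ := hu.exists_mem x hz
    exact ⟨u₁ y, h₁.map_mem y hy, by rw [h, h, e]⟩
  · obtain ⟨z, hz⟩ := z
    obtain ⟨x, rfl⟩ := h₁.surj z
    obtain ⟨y, hy, e⟩ := h₁.exists_mem x hz
    rw [show (⟨u₁ x, hz⟩ : DM.Q) = ⟨u₁ y, h₁.map_mem y hy⟩ from Subtype.ext e, ← h₁.map_Vinv ⟨y, hy⟩, h,
      hu.map_Vinv]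
    exact congrArg D₁.Vinv (Subtype.ext (h y).symm)
  · obtain ⟨x, rfl⟩ := h₁.surj z
    rw [← h₁.map_F, h, h, hu.map_F]

/-- The semilinear map out of a scalar extension induced by a semilinear map. -/
theorem exists_descend {R M R₁ : Type u} [CommRing R] [CommRing M] [CommRing R₁]
    {g : R →+* R₁} (g₁ : R →+* M) {g₂ : M →+* R₁} (hg : g₂.comp g₁ = g)
    {P : Type v} {P₁ : Type w} [AddCommGroup P] [Module (WittVector p R) P]
    [AddCommGroup P₁] [Module (WittVector p R₁) P₁] [Module.Finite (WittVector p R) P]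
    [Module.Projective (WittVector p R) P]
    (u : P →ₛₗ[(WittVector.map g : WittVector p R →+* WittVector p R₁)] P₁) :
    ∃ u₂ : Dieu.BC (WittVector.map g₁ : WittVector p R →+* WittVector p M) P
        →ₛₗ[(WittVector.map g₂ : WittVector p M →+* WittVector p R₁)] P₁,
      ∀ x, u₂ (Dieu.BC.ι (WittVector.map g₁ : WittVector p R →+* WittVector p M) P x) = u x := by
  obtain ⟨r, π, s, h⟩ := exists_coords (WittVector p R) P
  refine ⟨{
    toFun := fun z => ∑ j, WittVector.map g₂ (coord (WittVector.map g₁) s z j) • u (gen π j)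
    map_add' := fun x y => by simp only [map_add, Pi.add_apply, add_smul, Finset.sum_add_distrib]
    map_smul' := fun a x => by simp only [map_smul, Pi.smul_apply, smul_eq_mul, map_mul, mul_smul, Finset.smul_sum] },
    fun x => ?_⟩
  show ∑ j, WittVector.map g₂ (coord (WittVector.map g₁) s (Dieu.BC.ι _ P x) j) • u (gen π j) = u x
  conv_rhs => rw [← sum_smul_gen h x]
  rw [map_sum]
  refine Finset.sum_congr rfl fun j _ => ?_
  rw [Dieu.BC.ι_apply, coord_tmul, one_mul, map_smulₛₗ]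
  congr 1
  exact WittVector.ext fun n => by simp [← hg]

theorem exists_lift_chain (m : ℕ) :
    ∀ {R R₁ : Type u} [CommRing R] [CommRing R₁] {g : R →+* R₁}, Function.Surjective g →
    RingHom.ker g ^ 2 ^ m = ⊥ → IsNilpotent (p : R) →
    ∀ {P P' : Type v} {P₁ P₁' : Type (max u v)} [AddCommGroup P] [Module (WittVector p R) P] [AddCommGroup P']
      [Module (WittVector p R) P'] [AddCommGroup P₁] [Module (WittVector p R₁) P₁] [AddCommGroup P₁']
      [Module (WittVector p R₁) P₁']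
      {D : W4c1extbt610.Display3n p R P} {D' : W4c1extbt610.Display3n p R P'}
      {D₁ : W4c1extbt610.Display3n p R₁ P₁} {D₁' : W4c1extbt610.Display3n p R₁ P₁'}
      {u : P →ₛₗ[(WittVector.map g : WittVector p R →+* WittVector p R₁)] P₁}
      {u' : P' →ₛₗ[(WittVector.map g : WittVector p R →+* WittVector p R₁)] P₁'},
      Dieu.IsDisplay D → IsRed g D D₁ u → IsRed g D' D₁' u' →
      ∀ {χ : P₁ →ₗ[WittVector p R₁] P₁'}, W4c1extbt610.IsHom D₁ D₁' χ →
      ∃ (n : ℕ) (ψ : P →ₗ[WittVector p R] P'), W4c1extbt610.IsHom D D' ψ ∧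
        ∀ x, u' (ψ x) = (p : WittVector p R₁) ^ n • χ (u x) := by
  induction m with
  | zero =>
    intro R R₁ _ _ g _ hker hp0 P P' P₁ P₁' _ _ _ _ _ _ _ _ D D' D₁ D₁' u u' hD hu hu' χ hχ
    rw [pow_zero, pow_one] at hker
    refine exists_lift_step (fun x hx y _ => ?_) hp0 hD hu hu' hχ
    rw [hker, Submodule.mem_bot] at hx
    rw [hx, zero_mul]
  | succ m ih =>
    intro R R₁ _ _ g hgs hker hp0 P P' P₁ P₁' _ _ _ _ _ _ _ _ D D' D₁ D₁' u u' hD hu hu' χ hχ
    haveI := D.finite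
    haveI := D.projective
    haveI := D'.finite
    haveI := D'.projective
    let c := RingHom.ker g ^ 2
    let g₁ := Ideal.Quotient.mk c
    have hcle : ∀ x ∈ c, g x = 0 := fun x hx => RingHom.mem_ker.1 (Ideal.pow_le_self two_ne_zero hx)
    let g₂ : R ⧸ c →+* R₁ := Ideal.Quotient.lift c g hcle
    have hcomp : g₂.comp g₁ = g := RingHom.ext fun x => Ideal.Quotient.lift_mk c g hcle
    have hk1 : RingHom.ker g₁ ^ 2 ^ m = ⊥ := by
      rw [Ideal.mk_ker, ← pow_mul, ← pow_succ', hker]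
    have hk2 : ∀ x ∈ RingHom.ker g₂, ∀ y ∈ RingHom.ker g₂, x * y = 0 := by
      intro x hx y hy
      obtain ⟨x', rfl⟩ := Ideal.Quotient.mk_surjective x
      obtain ⟨y', rfl⟩ := Ideal.Quotient.mk_surjective y
      rw [← map_mul, Ideal.Quotient.eq_zero_iff_mem]
      show x' * y' ∈ RingHom.ker g ^ 2
      rw [pow_two]
      exact Ideal.mul_mem_mul (by rw [RingHom.mem_ker] at hx ⊢; rwa [← hcomp]) (by rw [RingHom.mem_ker] at hy ⊢; rwa [← hcomp])
    obtain ⟨DM, hDM, -⟩ := existsUnique_bc g₁ D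
    obtain ⟨DM', hDM', -⟩ := existsUnique_bc g₁ D'
    have h₁ := bc_isRed Ideal.Quotient.mk_surjective hDM
    have h₁' := bc_isRed Ideal.Quotient.mk_surjective hDM'
    obtain ⟨u₂, hu₂⟩ := exists_descend g₁ hcomp u
    obtain ⟨u₂', hu₂'⟩ := exists_descend g₁ hcomp u'
    have hpM : IsNilpotent (p : R ⧸ c) := by simpa using hp0.map g₁
    obtain ⟨n₁, ψM, hψM, eM⟩ := exists_lift_step hk2 hpM (isDisplay_bc g₁ hD hDM) (h₁.descend hcomp hu u₂ hu₂)
      (h₁'.descend hcomp hu' u₂' hu₂') hχ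
    obtain ⟨n₂, ψ, hψ, e⟩ := ih Ideal.Quotient.mk_surjective hk1 hp0 hD h₁ h₁' hψM
    refine ⟨n₂ + n₁, ψ, hψ, fun x => ?_⟩
    rw [← hu₂', e, map_smulₛₗ, eM, hu₂, map_pow, map_natCast, smul_smul, ← pow_add]

end Groth.Agent.DispRigid
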