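import Groth.Agent.DispRigid.SqZero
import Groth.Agent.DispTwenty.BaseChange

/-!
# Rigidity of homomorphisms of displays
-/

set_option autoImplicit false
set_option linter.style.haveILetI false
universe u v w

namespace Groth.Agent.DispRigid

open WittVector DispTwenty

variable {p : ℕ} [hp : Fact p.Prime]

/-- Membership in `W(b)`. -/
def InW {R : Type u} [CommRing R] (b : Ideal R) (x : WittVector p R) : Prop := ∀ i, x.coeff i ∈ b

theorem inW_iff {R : Type u} [CommRing R] (b : Ideal R) (x : WittVector p R) :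
    InW b x ↔ x ∈ RingHom.ker (WittVector.map (Ideal.Quotient.mk b) : WittVector p R →+* WittVector p (R ⧸ b)) := by
  rw [RingHom.mem_ker]
  refine ⟨fun h => WittVector.ext fun i => ?_, fun h i => ?_⟩
  · rw [map_coeff, zero_coeff, Ideal.Quotient.eq_zero_iff_mem]; exact h i
  · rw [← Ideal.Quotient.eq_zero_iff_mem, ← map_coeff, h, zero_coeff]

theorem inW_sum {R : Type u} [CommRing R] {b : Ideal R} {ι : Type*} (t : Finset ι) {x : ι → WittVector p R}
    (h : ∀ i ∈ t, InW b (x i)) : InW b (∑ i ∈ t, x i) :=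
  (inW_iff b _).2 (Ideal.sum_mem _ fun i hi => (inW_iff b _).1 (h i hi))

theorem inW_mul {R : Type u} [CommRing R] {b : Ideal R} (w : WittVector p R) {x : WittVector p R}
    (h : InW b x) : InW b (w * x) :=
  (inW_iff b _).2 (Ideal.mul_mem_left _ _ ((inW_iff b _).1 h))

theorem inW_mul_right {R : Type u} [CommRing R] {b : Ideal R} (w : WittVector p R) {x : WittVector p R}
    (h : InW b x) : InW b (x * w) := mul_comm w x ▸ inW_mul w h

theorem inW_shift {R : Type u} [CommRing R] {b : Ideal R} {x : WittVector p R} (h : InW b x) :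
    InW b (x.shift 1) := fun i => by rw [shift_coeff]; exact h _

theorem shift_sum {R : Type u} [CommRing R] {b : Ideal R} (hb : ∀ x ∈ b, ∀ y ∈ b, x * y = 0) {ι : Type*}
    (t : Finset ι) {x : ι → WittVector p R} (h : ∀ i, InW b (x i)) :
    (∑ i ∈ t, x i).shift 1 = ∑ i ∈ t, (x i).shift 1 := by
  classical
  induction t using Finset.induction_on with
  | empty =>
    simp only [Finset.sum_empty]
    exact shift_eq (c := 0) (by simp)
  | insert i t hi ih => rw [Finset.sum_insert hi, Finset.sum_insert hi, shift_add hb (h i 0) (inW_sum t (fun i _ => h i) 0), ih]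

theorem map_shift {R S : Type u} [CommRing R] [CommRing S] (g : R →+* S) (x : WittVector p R) :
    WittVector.map g (x.shift 1) = (WittVector.map g x).shift 1 := by
  ext i
  rw [map_coeff, shift_coeff, shift_coeff, map_coeff]

variable {R R' : Type u} [CommRing R] [CommRing R'] (g : R →+* R') {b : Ideal R'}
  {P P' : Type v} [AddCommGroup P] [Module (WittVector p R) P] [AddCommGroup P'] [Module (WittVector p R) P']
  {D : W4c1extbt610.Display3n p R P} {D' : W4c1extbt610.Display3n p R P'}
  {r r' : ℕ} {π : (Fin r → WittVector p R) →ₗ[WittVector p R] P} {s : P →ₗ[WittVector p R] (Fin r → WittVector p R)}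
  {π' : (Fin r' → WittVector p R) →ₗ[WittVector p R] P'} {s' : P' →ₗ[WittVector p R] (Fin r' → WittVector p R)}

local notation "W" => WittVector p R
local notation "σ" => (WittVector.frobenius : WittVector p R →+* WittVector p R)
local notation "G" => (WittVector.map g : WittVector p R →+* WittVector p R')

theorem map_teichmuller_sum (hb : ∀ x ∈ b, ∀ y ∈ b, x * y = 0) {ι : Type*} (t : Finset ι) {a : ι → R'}
    (ha : ∀ i, a i ∈ b) : ∑ i ∈ t, teichmuller p (a i) = teichmuller p (∑ i ∈ t, a i) := by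
  classical
  induction t using Finset.induction_on with
  | empty => simp [WittVector.teichmuller_zero]
  | insert i t hi ih =>
    have h1 : ∑ i ∈ t, a i ∈ b := Ideal.sum_mem _ fun i _ => ha i
    rw [Finset.sum_insert hi, Finset.sum_insert hi, ih,
      teichmuller_add p (hb _ (ha i) _ (ha i)) (hb _ (ha i) _ h1) (hb _ h1 _ h1)]

/-- `V⁻¹` on the part of `Q` that vanishes modulo a square zero ideal. -/
theorem Vinv_mod (hb : ∀ x ∈ b, ∀ y ∈ b, x * y = 0) (h' : π' ∘ₗ s' = LinearMap.id) (z : D'.Q)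
    (hz : ∀ m, InW b (G (s' (z : P') m))) (j : Fin r') :
    G (s' (D'.Vinv z) j) = ∑ m, (G (s' (z : P') m)).shift 1 * G (s' (D'.F (gen π' m)) j) := by
  obtain ⟨Sp⟩ := exists_split D'
  set c : Fin r' → W := fun m => s' (z : P') m
  set a : Fin r' → R := fun m => (c m).coeff 0
  have m1 : ∀ m, verschiebung ((c m).shift 1) • gen π' m ∈ D'.Q := fun m =>
    mem_Q_smul D' (W4c1extbt610.verschiebung_mem_IV p R _) _
  let z1 : D'.Q := ∑ m, ⟨_, m1 m⟩
  have hz0 : ((z - z1 : D'.Q) : P') = ∑ m, teichmuller p (a m) • gen π' m := by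
    rw [Submodule.coe_sub, Submodule.coe_sum, ← sum_smul_gen h' (z : P'), ← Finset.sum_sub_distrib]
    refine Finset.sum_congr rfl fun m _ => ?_
    rw [sub_eq_iff_eq_add, ← add_smul, ← eq_teichmuller_add]
  have hab : ∀ m, g (a m) ∈ b := fun m => by rw [← map_coeff]; exact hz m 0
  have hk : G (s' (D'.Vinv (z - z1)) j) = 0 := by
    set z₀ : D'.Q := z - z1
    have hsp : (z₀ : D'.Q) = (⟨Sp.πL z₀, Sp.memQ _⟩ : D'.Q) + ⟨Sp.πT z₀,
        D'.IV_smul_le (SetLike.le_def.1 (smul_mono_right _ le_top) (Sp.T_smul _ z₀.2))⟩ :=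
      Subtype.ext (Sp.sum_eq _).symm
    rw [hsp, map_add, map_add, Pi.add_apply, map_add]
    have e1 : (⟨Sp.πL z₀, Sp.memQ _⟩ : D'.Q) = ∑ m, teichmuller p (a m) • ⟨Sp.πL (gen π' m), Sp.memQ _⟩ :=
      Subtype.ext (by simp [hz0, map_sum, map_smul])
    have eL : G (s' (D'.Vinv ⟨Sp.πL z₀, Sp.memQ _⟩) j) = 0 := by
      rw [e1, map_sum, map_sum, Finset.sum_apply, map_sum]
      refine Finset.sum_eq_zero fun m _ => ?_
      rw [map_smulₛₗ, map_smul, Pi.smul_apply, smul_eq_mul, map_mul, map_frobenius_comm, map_teichmuller,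
        frobenius_teichmuller_eq_zero p (hb _ (hab m) _ (hab m)), zero_mul]
    rw [eL, zero_add]
    have hci : ∀ i, s' (Sp.πT z₀) i ∈ W4c1extbt610.IV p R := fun i => by
      refine Submodule.smul_induction_on (Sp.T_smul _ z₀.2) (fun c hc y _ => ?_) (fun y y' hy hy' => ?_)
      · rw [map_smul, Pi.smul_apply, smul_eq_mul]; exact Ideal.mul_mem_right _ _ hc
      · rw [map_add, Pi.add_apply]; exact add_mem hy hy'
    choose u hu using fun i => exists_verschiebung (hci i)
    have hu0 : ∀ i, G (u i) = 0 := fun i => by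
      refine verschiebung_injective p R' ?_
      rw [← WittVector.map_verschiebung, hu, map_zero, hz0, map_sum, map_sum, Finset.sum_apply, map_sum]
      have e : ∀ m, G (s' (Sp.πT (teichmuller p (a m) • gen π' m)) i) =
          teichmuller p ((G (s' (Sp.πT (gen π' m)) i)).coeff 0 * g (a m)) := fun m => by
        rw [map_smul, map_smul, Pi.smul_apply, smul_eq_mul, map_mul, map_teichmuller, mul_comm,
          mul_teichmuller_eq (hb _ (hab m) _ (hab m))]
      rw [Finset.sum_congr rfl fun m _ => e m,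
        map_teichmuller_sum hb _ (fun m => Ideal.mul_mem_left _ _ (hab m))]
      have h0 : (G (s' (Sp.πT (z₀ : P')) i)).coeff 0 = 0 := by
        rw [map_coeff, coeff_zero_of_mem_IV (hci i), map_zero]
      rw [hz0, map_sum, map_sum, Finset.sum_apply, map_sum, Finset.sum_congr rfl fun m _ => e m,
        map_teichmuller_sum hb _ (fun m => Ideal.mul_mem_left _ _ (hab m)), teichmuller_coeff_zero] at h0
      rw [h0, WittVector.teichmuller_zero]
    have hm : ∀ i, verschiebung (u i) • gen π' i ∈ D'.Q := fun i =>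
      mem_Q_smul D' (W4c1extbt610.verschiebung_mem_IV p R _) _
    rw [show (⟨Sp.πT z₀, D'.IV_smul_le (SetLike.le_def.1 (smul_mono_right _ le_top) (Sp.T_smul _ z₀.2))⟩ : D'.Q) =
      ∑ i, ⟨_, hm i⟩ from Subtype.ext (by simp only [Submodule.coe_sum, hu, sum_smul_gen h']), map_sum, map_sum,
      Finset.sum_apply, map_sum]
    refine Finset.sum_eq_zero fun i _ => ?_
    rw [Vinv_V_smul, map_smul, Pi.smul_apply, smul_eq_mul, map_mul, hu0, zero_mul]
  rw [← sub_add_cancel z z1, map_add, map_add, Pi.add_apply, map_add, hk, zero_add, sub_add_cancel, map_sum, map_sum,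
    Finset.sum_apply, map_sum]
  refine Finset.sum_congr rfl fun m _ => ?_
  rw [Vinv_V_smul, map_smul, Pi.smul_apply, smul_eq_mul, map_mul, map_shift]

/-- The matrix of a homomorphism. -/
noncomputable def homMat (ψ : P →ₗ[W] P') (π : (Fin r → W) →ₗ[W] P) (s' : P' →ₗ[W] (Fin r' → W)) :
    Matrix (Fin r) (Fin r') W := Matrix.of fun i j => s' (ψ (gen π i)) j

theorem map_hom_eq (h : π ∘ₗ s = LinearMap.id) (ψ : P →ₗ[W] P') (x : P) (j : Fin r') :
    s' (ψ x) j = ∑ l, s x l * homMat ψ π s' l j := by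
  conv_lhs => rw [← sum_smul_gen h x]
  simp [homMat, map_sum, Finset.sum_apply]

theorem fixed_point (hb : ∀ x ∈ b, ∀ y ∈ b, x * y = 0) (h : π ∘ₗ s = LinearMap.id) (h' : π' ∘ₗ s' = LinearMap.id)
    {Vs : P →ₗ[W] Dieu.BC σ P} (hVs : Dieu.IsVSharp D Vs) {ψ : P →ₗ[W] P'} (hψ : W4c1extbt610.IsHom D D' ψ)
    (hX : ∀ i j, InW b (G (homMat ψ π s' i j))) :
    (homMat ψ π s').map G = (mat Vs π s 0).map G *
      ((((homMat ψ π s').map G).map fun x => x.shift 1) * (Matrix.of fun m j => G (s' (D'.F (gen π' m)) j))) := by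
  set Y := (((homMat ψ π s').map G).map fun x => x.shift 1) * (Matrix.of fun m j => G (s' (D'.F (gen π' m)) j)) with hY
  have key : ∀ (x : P) (j : Fin r'), G (s' (ψ x) j) = ∑ l, G (coord σ s (Vs x) l) * Y l j := by
    intro x
    have hx : x ∈ Submodule.span W (Set.range D.Vinv) := D.span_range_Vinv ▸ Submodule.mem_top
    induction hx using Submodule.span_induction with
    | zero => intro j; simp
    | add x y _ _ hx hy =>
      intro j
      simp only [map_add, Pi.add_apply, hx, hy, add_mul, Finset.sum_add_distrib]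
    | smul c x _ hx =>
      intro j
      simp only [map_smul, Pi.smul_apply, smul_eq_mul, map_mul, hx, Finset.mul_sum, mul_assoc]
    | mem x hx =>
      obtain ⟨y, rfl⟩ := hx
      intro j
      have hy1 := hVs.app_smul_Vinv 1 y
      rw [one_smul] at hy1
      have hz : ∀ m, InW b (G (s' (ψ (y : P)) m)) := fun m => by
        rw [map_hom_eq h, map_sum]
        exact inW_sum _ fun l _ => by rw [map_mul]; exact inW_mul _ (hX l m)
      rw [hψ.comm_Vinv, Vinv_mod g hb h' _ hz, hy1]
      simp only [coord_tmul, one_mul]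
      have e : ∀ m, (G (s' (ψ (y : P)) m)).shift 1 =
          ∑ l, G (σ (s (y : P) l)) * (G (homMat ψ π s' l m)).shift 1 := fun m => by
        rw [map_hom_eq h, map_sum, shift_sum hb _ (fun l => by rw [map_mul]; exact inW_mul _ (hX l m))]
        refine Finset.sum_congr rfl fun l _ => ?_
        rw [map_mul, shift_mul hb (hX l m 0), map_frobenius_comm]
      simp only [e, hY, Matrix.mul_apply, Matrix.map_apply, Matrix.of_apply, Finset.mul_sum, Finset.sum_mul, mul_assoc]
      exact Finset.sum_comm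
  refine Matrix.ext fun i j => ?_
  rw [Matrix.mul_apply]
  simp only [Matrix.map_apply, mat, Matrix.of_apply, Dieu.vSharpPow_zero_apply, coord_castHom]
  exact key (gen π i) j

theorem homMat_mod_eq_zero (hp' : IsNilpotent (p : R')) (hb : ∀ x ∈ b, ∀ y ∈ b, x * y = 0)
    (h : π ∘ₗ s = LinearMap.id) (h' : π' ∘ₗ s' = LinearMap.id)
    {Vs : P →ₗ[W] Dieu.BC σ P} (hVs : Dieu.IsVSharp D Vs) (hnil : Dieu.IsVNilpotent Vs)
    {ψ : P →ₗ[W] P'} (hψ : W4c1extbt610.IsHom D D' ψ) (hX : ∀ i j, InW b (G (homMat ψ π s' i j))) :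
    ∀ i j, G (homMat ψ π s' i j) = 0 := by
  set X := (homMat ψ π s').map G
  set B := Matrix.of fun m j => G (s' (D'.F (gen π' m)) j)
  have hfix := fixed_point g hb h h' hVs hψ hX
  have hinW : ∀ Y : Matrix (Fin r) (Fin r') (WittVector p R'), (∀ i j, InW b (Y i j)) →
      ∀ i j, InW b (((Y.map fun x => x.shift 1) * B) i j) := fun Y hY i j => by
    rw [Matrix.mul_apply]
    exact inW_sum _ fun l _ => inW_mul_right _ (inW_shift (hY i l))
  have hstep : ∀ k, ∃ Y : Matrix (Fin r) (Fin r') (WittVector p R'),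
      (∀ i j, InW b (Y i j)) ∧ X = (mat Vs π s k).map G * Y := by
    intro k
    induction k with
    | zero => exact ⟨_, hinW X hX, hfix⟩
    | succ k ih =>
      obtain ⟨Y, hY, hXY⟩ := ih
      refine ⟨_, hinW Y hY, ?_⟩
      have e : X.map (fun x => x.shift 1) = ((mat Vs π s k).map σ).map G * Y.map (fun x => x.shift 1) := by
        refine Matrix.ext fun i j => ?_
        rw [Matrix.map_apply, hXY, Matrix.mul_apply, Matrix.mul_apply,
          shift_sum hb _ (fun l => inW_mul _ (hY l j))]
        refine Finset.sum_congr rfl fun l _ => ?_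
        rw [shift_mul hb (hY l j 0)]
        simp [map_frobenius_comm]
      conv_lhs => rw [show X = _ from hfix, e]
      rw [mat_succ h, Matrix.map_mul]
      simp only [Matrix.mul_assoc]
      rfl
  obtain ⟨k, hk⟩ := exists_JV_pow_mul_eq_zero hb hp'
  obtain ⟨N, hN⟩ := exists_mat_mem h hnil k
  obtain ⟨Y, hY, hXY⟩ := hstep N
  intro i j
  show X i j = 0
  rw [hXY, Matrix.mul_apply]
  refine Finset.sum_eq_zero fun l _ => hk _ (Ideal.pow_le_pow_right (Nat.le_succ k) ?_) _ (hY l j)
  have hle : (JV p R).map G ≤ JV p R' := by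
    rw [Ideal.map_le_iff_le_comap]
    refine sup_le (fun a ha => Submodule.mem_sup_left (map_mem_IV g ha)) ?_
    rw [Ideal.span_le, Set.singleton_subset_iff, SetLike.mem_coe, Ideal.mem_comap, map_natCast]
    exact Submodule.mem_sup_right (Ideal.subset_span rfl)
  refine Ideal.pow_right_mono hle _ ?_
  rw [← Ideal.map_pow]
  exact Ideal.mem_map_of_mem _ (hN i l)

theorem hom_eq_zero (hp0 : IsNilpotent (p : R)) (hD : Dieu.IsDisplay D) (h : π ∘ₗ s = LinearMap.id)
    (h' : π' ∘ₗ s' = LinearMap.id) {a : Ideal R} (ha : IsNilpotent a)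
    {ψ : P →ₗ[W] P'} (hψ : W4c1extbt610.IsHom D D' ψ) (hX : ∀ i j, InW a (homMat ψ π s' i j)) : ψ = 0 := by
  obtain ⟨Vs, hVs, hnil⟩ := hD
  obtain ⟨m, hm⟩ := ha
  have hX' : ∀ k, ∀ i j, InW (a ^ 2 ^ k) (homMat ψ π s' i j) := by
    intro k
    induction k with
    | zero => simpa using hX
    | succ k ih =>
      set c := a ^ 2 ^ k
      let g := Ideal.Quotient.mk (c ^ 2)
      have hb : ∀ x ∈ c.map g, ∀ y ∈ c.map g, x * y = 0 := by
        intro x hx y hy
        obtain ⟨x', hx', rfl⟩ := (Ideal.mem_map_iff_of_surjective g Ideal.Quotient.mk_surjective).1 hx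
        obtain ⟨y', hy', rfl⟩ := (Ideal.mem_map_iff_of_surjective g Ideal.Quotient.mk_surjective).1 hy
        rw [← map_mul, Ideal.Quotient.eq_zero_iff_mem, pow_two]
        exact Ideal.mul_mem_mul hx' hy'
      have hz := homMat_mod_eq_zero g (by simpa using hp0.map g) hb h h' hVs hnil hψ (fun i j l => by
        rw [map_coeff]; exact Ideal.mem_map_of_mem _ (ih i j l))
      intro i j
      rw [show a ^ 2 ^ (k + 1) = c ^ 2 by rw [← pow_mul, pow_succ], inW_iff, RingHom.mem_ker]
      exact hz i j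
  have h0 : ∀ i j, homMat ψ π s' i j = 0 := fun i j => by
    refine WittVector.ext fun l => ?_
    have := Ideal.pow_le_pow_right (Nat.lt_two_pow_self (n := m)).le (hX' m i j l)
    rw [hm] at this
    simpa using this
  refine LinearMap.ext fun x => ?_
  rw [← sum_smul_gen h' (ψ x), LinearMap.zero_apply]
  refine Finset.sum_eq_zero fun j _ => ?_
  rw [map_hom_eq h, Finset.sum_eq_zero (fun l _ => by rw [h0, mul_zero]), zero_smul]

end Groth.Agent.DispRigid
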