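import Groth.Agent.DispRigid.Inj

/-!
# Lifting homomorphisms of displays up to a power of `p`
-/

set_option autoImplicit false
set_option linter.style.haveILetI false
universe u v w

namespace Groth.Agent.DispRigid

open WittVector DispTwenty

variable {p : ℕ} [hp : Fact p.Prime]

/-- `u : P → P₁` exhibits `D₁` as the reduction of `D` along a surjection `g`. -/
structure IsRed {R R₁ : Type u} [CommRing R] [CommRing R₁] (g : R →+* R₁)
    {P : Type v} {P₁ : Type w} [AddCommGroup P] [Module (WittVector p R) P] [AddCommGroup P₁] [Module (WittVector p R₁) P₁]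
    (D : W4c1extbt610.Display3n p R P) (D₁ : W4c1extbt610.Display3n p R₁ P₁)
    (u : P →ₛₗ[(WittVector.map g : WittVector p R →+* WittVector p R₁)] P₁) : Prop where
  surj : Function.Surjective u
  mem_of_eq_zero : ∀ x, u x = 0 →
    x ∈ RingHom.ker (WittVector.map g : WittVector p R →+* WittVector p R₁) • (⊤ : Submodule (WittVector p R) P)
  exists_mem : ∀ z, u z ∈ D₁.Q → ∃ y ∈ D.Q, u z = u y
  map_mem : ∀ y, y ∈ D.Q → u y ∈ D₁.Q
  map_Vinv : ∀ y : D.Q, u (D.Vinv y) = D₁.Vinv ⟨u y, map_mem y y.2⟩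
  map_F : ∀ x, u (D.F x) = D₁.F (u x)

section Hat

variable {R : Type u} [CommRing R] {P : Type v} [AddCommGroup P] [Module (WittVector p R) P]
  {D : W4c1extbt610.Display3n p R P} (S : Split D) {r : ℕ}

local notation "W" => WittVector p R
local notation "σ" => (WittVector.frobenius : WittVector p R →+* WittVector p R)

/-- `Q + W(b) P`. -/
noncomputable def hatQ (s : P →ₗ[W] (Fin r → W)) (b : Ideal R) : Submodule W P where
  carrier := {z | ∀ j, (s (S.πT z) j).coeff 0 ∈ b}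
  add_mem' := fun {x y} hx hy j => by
    have : (constantCoeff : W →+* R) (s (S.πT (x + y)) j) = (s (S.πT x) j).coeff 0 + (s (S.πT y) j).coeff 0 := by
      rw [map_add, map_add, Pi.add_apply, map_add]; rfl
    show (constantCoeff : W →+* R) _ ∈ b
    rw [this]; exact b.add_mem (hx j) (hy j)
  zero_mem' := fun j => by
    have : (constantCoeff : W →+* R) (s (S.πT (0 : P)) j) = 0 := by simp
    show (constantCoeff : W →+* R) _ ∈ b
    rw [this]; exact b.zero_mem
  smul_mem' := fun c x hx j => by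
    have : (constantCoeff : W →+* R) (s (S.πT (c • x)) j) = c.coeff 0 * (s (S.πT x) j).coeff 0 := by
      rw [map_smul, map_smul, Pi.smul_apply, smul_eq_mul, map_mul]; rfl
    show (constantCoeff : W →+* R) _ ∈ b
    rw [this]; exact b.mul_mem_left _ (hx j)

variable {π : (Fin r → WittVector p R) →ₗ[WittVector p R] P} {s : P →ₗ[WittVector p R] (Fin r → WittVector p R)}
  {b : Ideal R}

theorem mem_hatQ_of_mem {y : P} (hy : y ∈ D.Q) : y ∈ hatQ S s b := fun j => by
  suffices h : s (S.πT y) j ∈ W4c1extbt610.IV p R by rw [coeff_zero_of_mem_IV h]; exact b.zero_mem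
  refine Submodule.smul_induction_on (S.T_smul _ hy) (fun c hc x _ => ?_) (fun x x' hx hx' => ?_)
  · rw [map_smul, Pi.smul_apply, smul_eq_mul]; exact Ideal.mul_mem_right _ _ hc
  · rw [map_add, Pi.add_apply]; exact add_mem hx hx'

theorem smul_mem_hatQ {c : W} (hc : c.coeff 0 ∈ b) (x : P) : c • x ∈ hatQ S s b := fun j => by
  have : (constantCoeff : W →+* R) (s (S.πT (c • x)) j) = c.coeff 0 * (s (S.πT x) j).coeff 0 := by
    rw [map_smul, map_smul, Pi.smul_apply, smul_eq_mul, map_mul]; rfl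
  show (constantCoeff : W →+* R) _ ∈ b
  rw [this]; exact b.mul_mem_right _ hc

/-- `V⁻¹` extended to `Q + W(b) P`. -/
noncomputable def hatV (hb : ∀ x ∈ b, ∀ y ∈ b, x * y = 0) (π : (Fin r → W) →ₗ[W] P) (s : P →ₗ[W] (Fin r → W)) :
    hatQ S s b →ₛₗ[σ] P where
  toFun z := D.Vinv ⟨S.πL (z : P), S.memQ _⟩ + ∑ j, (s (S.πT (z : P)) j).shift 1 • D.F (S.πT (gen π j))
  map_add' x y := by
    have e : ∀ j, (s (S.πT ((x + y : hatQ S s b) : P)) j).shift 1 =
        (s (S.πT (x : P)) j).shift 1 + (s (S.πT (y : P)) j).shift 1 := fun j => by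
      rw [Submodule.coe_add, map_add, map_add, Pi.add_apply, shift_add hb (x.2 j) (y.2 j)]
    have e' : (⟨S.πL ((x + y : hatQ S s b) : P), S.memQ _⟩ : D.Q) = ⟨S.πL x, S.memQ _⟩ + ⟨S.πL y, S.memQ _⟩ :=
      Subtype.ext (by simp)
    simp only [e, e', map_add, add_smul, Finset.sum_add_distrib]
    abel
  map_smul' c x := by
    have e : ∀ j, (s (S.πT ((c • x : hatQ S s b) : P)) j).shift 1 = σ c * (s (S.πT (x : P)) j).shift 1 := fun j => by
      rw [Submodule.coe_smul, map_smul, map_smul, Pi.smul_apply, smul_eq_mul, shift_mul hb (x.2 j)]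
    have e' : (⟨S.πL ((c • x : hatQ S s b) : P), S.memQ _⟩ : D.Q) = c • ⟨S.πL x, S.memQ _⟩ :=
      Subtype.ext (by simp)
    simp only [e, e', map_smulₛₗ, mul_smul, ← Finset.smul_sum, smul_add]

theorem hatV_V_smul (hb : ∀ x ∈ b, ∀ y ∈ b, x * y = 0) (h : π ∘ₗ s = LinearMap.id) (w : W) (x : P)
    (hm : verschiebung w • x ∈ hatQ S s b) : hatV S hb π s ⟨_, hm⟩ = w • D.F x := by
  show D.Vinv ⟨S.πL (verschiebung w • x), S.memQ _⟩ + ∑ j, (s (S.πT (verschiebung w • x)) j).shift 1 • _ = _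
  have e : ∀ j, (s (S.πT (verschiebung w • x)) j).shift 1 = w * σ (s (S.πT x) j) := fun j => by
    refine shift_eq (c := 0) ?_
    rw [WittVector.teichmuller_zero, zero_add, map_smul, map_smul, Pi.smul_apply, smul_eq_mul,
      verschiebung_mul_frobenius]
  have e1 : (⟨S.πL (verschiebung w • x), S.memQ _⟩ : D.Q) = verschiebung w • ⟨S.πL x, S.memQ _⟩ :=
    Subtype.ext (by simp)
  simp only [e, e1, mul_smul, ← map_smulₛₗ, ← Finset.smul_sum, ← map_sum]
  rw [map_smulₛₗ D.Vinv, frobenius_verschiebung, mul_smul, ← F_eq D ⟨S.πL x, S.memQ _⟩, ← smul_add]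
  congr 1
  rw [← map_add]
  congr 1
  simp only [← map_smul, ← map_sum]
  rw [sum_smul_gen h, S.T_T]
  exact S.sum_eq x

theorem hatV_eq_Vinv (hb : ∀ x ∈ b, ∀ y ∈ b, x * y = 0) (h : π ∘ₗ s = LinearMap.id) {y : P} (hy : y ∈ D.Q)
    (hm : y ∈ hatQ S s b) : hatV S hb π s ⟨y, hm⟩ = D.Vinv ⟨y, hy⟩ := by
  have hc : ∀ j, s (S.πT y) j ∈ W4c1extbt610.IV p R := fun j => by
    refine Submodule.smul_induction_on (S.T_smul _ hy) (fun c hc x _ => ?_) (fun x x' hx hx' => ?_)
    · rw [map_smul, Pi.smul_apply, smul_eq_mul]; exact Ideal.mul_mem_right _ _ hc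
    · rw [map_add, Pi.add_apply]; exact add_mem hx hx'
  choose u hu using fun j => exists_verschiebung (hc j)
  have e : ∀ j, (s (S.πT y) j).shift 1 = u j := fun j =>
    shift_eq (c := 0) (by rw [WittVector.teichmuller_zero, zero_add, hu])
  show D.Vinv ⟨S.πL y, S.memQ _⟩ + ∑ j, (s (S.πT y) j).shift 1 • _ = _
  have m : ∀ j, verschiebung (u j) • S.πT (gen π j) ∈ D.Q := fun j =>
    mem_Q_smul D (W4c1extbt610.verschiebung_mem_IV p R _) _
  simp only [e, ← fun j => Vinv_V_smul D (u j) (S.πT (gen π j)) (m j)]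
  rw [← map_sum, ← map_add]
  refine congrArg D.Vinv (Subtype.ext ?_)
  simp only [Submodule.coe_add, Submodule.coe_sum, hu, ← map_smul, ← map_sum, sum_smul_gen h, S.T_T]
  exact S.sum_eq y

theorem hatV_teichmuller (hb : ∀ x ∈ b, ∀ y ∈ b, x * y = 0) {a : R} (ha : a ∈ b) (x : P)
    (hm : teichmuller p a • x ∈ hatQ S s b) : hatV S hb π s ⟨_, hm⟩ = 0 := by
  show D.Vinv ⟨S.πL (teichmuller p a • x), S.memQ _⟩ + ∑ j, (s (S.πT (teichmuller p a • x)) j).shift 1 • _ = _
  have e1 : (⟨S.πL (teichmuller p a • x), S.memQ _⟩ : D.Q) = teichmuller p a • ⟨S.πL x, S.memQ _⟩ :=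
    Subtype.ext (by simp)
  have e : ∀ j, (s (S.πT (teichmuller p a • x)) j).shift 1 = 0 := fun j => by
    refine shift_eq (c := (s (S.πT x) j).coeff 0 * a) ?_
    rw [map_zero, add_zero, map_smul, map_smul, Pi.smul_apply, smul_eq_mul, mul_comm,
      mul_teichmuller_eq (hb _ ha _ ha)]
  rw [e1, map_smulₛₗ, frobenius_teichmuller_eq_zero p (hb _ ha _ ha), zero_smul, zero_add]
  exact Finset.sum_eq_zero fun j _ => by rw [e, zero_smul]

theorem hatV_inW (hb : ∀ x ∈ b, ∀ y ∈ b, x * y = 0) (h : π ∘ₗ s = LinearMap.id) (z : hatQ S s b)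
    (hz : ∀ m, InW b (s (z : P) m)) :
    hatV S hb π s z = ∑ m, (s (z : P) m).shift 1 • D.F (gen π m) := by
  have m1 : ∀ m, teichmuller p ((s (z : P) m).coeff 0) • gen π m ∈ hatQ S s b := fun m =>
    smul_mem_hatQ S (by rw [teichmuller_coeff_zero]; exact hz m 0) _
  have m2 : ∀ m, verschiebung ((s (z : P) m).shift 1) • gen π m ∈ hatQ S s b := fun m =>
    mem_hatQ_of_mem S (mem_Q_smul D (W4c1extbt610.verschiebung_mem_IV p R _) _)
  have e : z = ∑ m, ((⟨_, m1 m⟩ : hatQ S s b) + ⟨_, m2 m⟩) := Subtype.ext (by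
    simp only [Submodule.coe_sum, Submodule.coe_add, ← add_smul, ← eq_teichmuller_add, sum_smul_gen h])
  conv_lhs => rw [e]
  rw [map_sum]
  exact Finset.sum_congr rfl fun m _ => by
    rw [map_add, hatV_teichmuller S hb (hz m 0), hatV_V_smul S hb h, zero_add]

end Hat

variable {R R₁ : Type u} [CommRing R] [CommRing R₁] {g : R →+* R₁}
  {P P' : Type v} {P₁ P₁' : Type w} [AddCommGroup P] [Module (WittVector p R) P] [AddCommGroup P'] [Module (WittVector p R) P']
  [AddCommGroup P₁] [Module (WittVector p R₁) P₁] [AddCommGroup P₁'] [Module (WittVector p R₁) P₁']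
  {D : W4c1extbt610.Display3n p R P} {D' : W4c1extbt610.Display3n p R P'}
  {D₁ : W4c1extbt610.Display3n p R₁ P₁} {D₁' : W4c1extbt610.Display3n p R₁ P₁'}
  {u : P →ₛₗ[(WittVector.map g : WittVector p R →+* WittVector p R₁)] P₁}
  {u' : P' →ₛₗ[(WittVector.map g : WittVector p R →+* WittVector p R₁)] P₁'}

local notation "W" => WittVector p R
local notation "σ" => (WittVector.frobenius : WittVector p R →+* WittVector p R)
local notation "G" => (WittVector.map g : WittVector p R →+* WittVector p R₁)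

theorem coeff_mem_ker {c : W} (hc : c ∈ RingHom.ker G) (i : ℕ) : c.coeff i ∈ RingHom.ker g := by
  rw [RingHom.mem_ker, ← WittVector.map_coeff, RingHom.mem_ker.1 hc, WittVector.zero_coeff]

theorem IsRed.inW_coord (hu : IsRed g D D₁ u) {r : ℕ} (s : P →ₗ[W] (Fin r → W)) {x : P} (hx : u x = 0) (j : Fin r) :
    InW (RingHom.ker g) (s x j) := by
  intro i
  refine coeff_mem_ker ?_ i
  refine Submodule.smul_induction_on (hu.mem_of_eq_zero x hx) (fun c hc y _ => ?_) (fun y y' hy hy' => ?_)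
  · rw [map_smul, Pi.smul_apply, smul_eq_mul]; exact Ideal.mul_mem_right _ _ hc
  · rw [map_add, Pi.add_apply]; exact add_mem hy hy'

theorem exists_lift_step (hg : ∀ x ∈ RingHom.ker g, ∀ y ∈ RingHom.ker g, x * y = 0)
    (hp0 : IsNilpotent (p : R)) (hD : Dieu.IsDisplay D) (hu : IsRed g D D₁ u) (hu' : IsRed g D' D₁' u')
    {χ : P₁ →ₗ[WittVector p R₁] P₁'} (hχ : W4c1extbt610.IsHom D₁ D₁' χ) :
    ∃ (n : ℕ) (ψ : P →ₗ[W] P'), W4c1extbt610.IsHom D D' ψ ∧
      ∀ x, u' (ψ x) = (p : WittVector p R₁) ^ n • χ (u x) := by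
  classical
  haveI := D.finite
  haveI := D.projective
  haveI := D'.finite
  haveI := D'.projective
  obtain ⟨Vs, hVs, hnil⟩ := hD
  obtain ⟨S⟩ := exists_split D
  obtain ⟨S'⟩ := exists_split D'
  obtain ⟨r, π, s, h⟩ := exists_coords W P
  obtain ⟨r', π', s', h'⟩ := exists_coords W P'
  set b := RingHom.ker g
  let IsLift : (P →ₗ[W] P') → Prop := fun ψ => ∀ x, u' (ψ x) = χ (u x)
  -- lifts send `Q` into the enlarged `Q'`
  have hQ : ∀ ψ, IsLift ψ → ∀ y ∈ D.Q, ψ y ∈ hatQ S' s' b := by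
    intro ψ hψ y hy
    obtain ⟨y', hy', e⟩ := hu'.exists_mem (ψ y) (hψ y ▸ hχ.mapsTo _ (hu.map_mem y hy))
    have h0 : ψ y - y' ∈ hatQ S' s' b := fun j => by
      have hw := hu'.inW_coord s' (x := ψ y - y') (by rw [map_sub, e, sub_self])
      have hx : ψ y - y' ∈ hatQ S' s' b := by
        rw [← sum_smul_gen h' (ψ y - y')]
        exact Submodule.sum_mem _ fun m _ => smul_mem_hatQ S' (hw m 0) _
      exact hx j
    simpa using add_mem h0 (mem_hatQ_of_mem S' (s := s') (b := b) hy')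
  -- reduction of the extended `V⁻¹`
  have hred : ∀ z : hatQ S' s' b, ∀ hz : u' z ∈ D₁'.Q, u' (hatV S' hg π' s' z) = D₁'.Vinv ⟨u' z, hz⟩ := by
    intro z hz
    set c := fun j => s' (S'.πT (z : P')) j
    have hc : ∀ j, G (c j) = verschiebung (G ((c j).shift 1)) := fun j => by
      conv_lhs => rw [eq_teichmuller_add (c j)]
      rw [map_add, map_teichmuller, show g ((c j).coeff 0) = 0 from z.2 j, WittVector.teichmuller_zero, zero_add,
        WittVector.map_verschiebung]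
    have m1 : ∀ j, verschiebung (G ((c j).shift 1)) • u' (S'.πT (gen π' j)) ∈ D₁'.Q := fun j =>
      mem_Q_smul D₁' (W4c1extbt610.verschiebung_mem_IV p R₁ _) _
    have e : (⟨u' z, hz⟩ : D₁'.Q) = ⟨u' (S'.πL z), hu'.map_mem _ (S'.memQ _)⟩ + ∑ j, ⟨_, m1 j⟩ := Subtype.ext (by
      simp only [Submodule.coe_add, Submodule.coe_sum, ← hc, ← map_smulₛₗ, ← map_sum, ← map_add]
      congr 1
      simp only [c, ← map_smul, ← map_sum, sum_smul_gen h', S'.T_T, S'.sum_eq])
    rw [e, map_add, map_sum]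
    show u' (D'.Vinv ⟨S'.πL z, S'.memQ _⟩ + ∑ j, (c j).shift 1 • D'.F (S'.πT (gen π' j))) = _
    rw [map_add, map_sum, hu'.map_Vinv]
    congr 1
    refine Finset.sum_congr rfl fun j _ => ?_
    rw [Vinv_V_smul, map_smulₛₗ, hu'.map_F]
  let e := LinearEquiv.ofBijective _ (S.bijective hp0)
  -- one step of the iteration
  have hnext : ∀ ψ, IsLift ψ → ∃ ψ' : P →ₗ[W] P', IsLift ψ' ∧
      ∀ (y : D.Q) (hy : ψ y ∈ hatQ S' s' b), ψ' (D.Vinv y) = hatV S' hg π' s' ⟨ψ y, hy⟩ := by
    intro ψ hψ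
    let θ : P →ₛₗ[σ] P' := (hatV S' hg π' s').comp
        ((ψ.comp S.πL).codRestrict (hatQ S' s' b) fun x => hQ ψ hψ _ (S.memQ x)) +
      D'.F.comp (ψ.comp S.πT)
    let ψ' : P →ₗ[W] P' := Dieu.BC.lift σ θ ∘ₗ e.symm.toLinearMap
    have hφ : ∀ x, ψ' (S.phi x) = θ x := fun x => by
      have : e.symm (S.phi x) = Dieu.BC.tmul σ 1 x := e.symm_apply_eq.2 (by simp [e])
      simp [ψ', this]
    have hT : ∀ x, ψ' (D.F (S.πT x)) = D'.F (ψ (S.πT x)) := fun x => by
      have e1 : S.phi (S.πT x) = D.F (S.πT x) := by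
        rw [S.phi_apply, show (⟨S.πL (S.πT x), S.memQ _⟩ : D.Q) = 0 from Subtype.ext (S.L_T x), map_zero, zero_add,
          S.T_T]
      rw [← e1, hφ]
      show hatV S' hg π' s' _ + D'.F (ψ (S.πT (S.πT x))) = _
      rw [S.T_T, add_eq_right]
      exact (congrArg _ (Subtype.ext (by simp [S.L_T]))).trans (map_zero _)
    have hL : ∀ x, ψ' (D.Vinv ⟨S.πL x, S.memQ x⟩) = hatV S' hg π' s' ⟨ψ (S.πL x), hQ ψ hψ _ (S.memQ x)⟩ := fun x => by
      have hLL : S.πL (S.πL x) = S.πL x := by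
        have := congrArg S.πL (S.sum_eq x)
        rwa [map_add, S.L_T, add_zero] at this
      have hTL : S.πT (S.πL x) = 0 := by
        have := S.sum_eq (S.πL x)
        rwa [hLL, add_eq_left] at this
      have e1 : S.phi (S.πL x) = D.Vinv ⟨S.πL x, S.memQ x⟩ := by
        rw [S.phi_apply, hTL, map_zero, add_zero]
        exact congrArg D.Vinv (Subtype.ext hLL)
      rw [← e1, hφ]
      show hatV S' hg π' s' _ + D'.F (ψ (S.πT (S.πL x))) = _
      rw [hTL, map_zero, map_zero, add_zero]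
      exact congrArg _ (Subtype.ext (by simp [hLL]))
    have hV : ∀ (y : D.Q) (hy : ψ y ∈ hatQ S' s' b), ψ' (D.Vinv y) = hatV S' hg π' s' ⟨ψ y, hy⟩ := by
      rintro ⟨y, hyQ⟩ hy
      have H : ∀ t ∈ W4c1extbt610.IV p R • LinearMap.range S.πT, ∃ (ht : t ∈ D.Q) (ht' : ψ t ∈ hatQ S' s' b),
          ψ' (D.Vinv ⟨t, ht⟩) = hatV S' hg π' s' ⟨ψ t, ht'⟩ := by
        intro t ht
        refine Submodule.smul_induction_on ht (fun a ha x hx => ?_) (fun x x' hx hx' => ?_)
        · obtain ⟨x₀, rfl⟩ := hx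
          obtain ⟨c, rfl⟩ := exists_verschiebung ha
          have hm : verschiebung c • ψ (S.πT x₀) ∈ hatQ S' s' b :=
            mem_hatQ_of_mem S' (mem_Q_smul D' (W4c1extbt610.verschiebung_mem_IV p R _) _)
          refine ⟨mem_Q_smul D ha _, (map_smul ψ _ _).symm ▸ hm, ?_⟩
          rw [Vinv_V_smul, map_smul, hT, ← hatV_V_smul S' hg h' c _ hm]
          exact congrArg _ (Subtype.ext (map_smul ψ _ _).symm)
        · obtain ⟨a1, a2, a3⟩ := hx
          obtain ⟨b1, b2, b3⟩ := hx'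
          refine ⟨add_mem a1 b1, by rw [map_add]; exact add_mem a2 b2, ?_⟩
          rw [show (⟨x + x', add_mem a1 b1⟩ : D.Q) = ⟨x, a1⟩ + ⟨x', b1⟩ from rfl, map_add, map_add, a3, b3, ← map_add]
          exact congrArg _ (Subtype.ext (map_add ψ x x').symm)
      obtain ⟨ht, ht', hH⟩ := H _ (S.T_smul y hyQ)
      refine (congrArg (fun w : D.Q => ψ' (D.Vinv w))
        (Subtype.ext (S.sum_eq y).symm : (⟨y, hyQ⟩ : D.Q) = ⟨S.πL y, S.memQ y⟩ + ⟨S.πT y, ht⟩)).trans ?_
      rw [map_add, map_add, hL, hH, ← map_add]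
      exact congrArg _ (Subtype.ext (by simp [← map_add, S.sum_eq]))
    refine ⟨ψ', fun x => ?_, hV⟩
    have hx : x ∈ Submodule.span W (Set.range D.Vinv) := D.span_range_Vinv ▸ Submodule.mem_top
    induction hx using Submodule.span_induction with
    | mem z hz =>
      obtain ⟨y, rfl⟩ := hz
      have hy1 : u' (ψ y) ∈ D₁'.Q := hψ (y : P) ▸ hχ.mapsTo _ (hu.map_mem _ y.2)
      rw [hV y (hQ ψ hψ _ y.2), hred _ hy1, hu.map_Vinv, hχ.comm_Vinv]
      exact congrArg D₁'.Vinv (Subtype.ext (hψ y))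
    | zero => simp
    | add a c _ _ ha hc => simp only [map_add, ha, hc]
    | smul c a _ ha => simp only [map_smul, map_smulₛₗ, ha, RingHom.id_apply]
  choose t ht using fun i => hu'.surj (χ (u (gen π i)))
  let ψ₀ : P →ₗ[W] P' := Fintype.linearCombination W t ∘ₗ s
  have hψ₀ : IsLift ψ₀ := fun x => by
    show u' (Fintype.linearCombination W t (s x)) = _
    conv_rhs => rw [← sum_smul_gen h x]
    simp only [Fintype.linearCombination_apply, map_sum, map_smulₛₗ, ht, map_smul, RingHom.id_apply]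
  choose nx hnx using hnext
  let seq : ℕ → {ψ // IsLift ψ} := fun n =>
    Nat.rec ⟨ψ₀, hψ₀⟩ (fun _ ψ => ⟨nx ψ.1 ψ.2, (hnx ψ.1 ψ.2).1⟩) n
  have hseq : ∀ k (y : D.Q) (hy : (seq k).1 y ∈ hatQ S' s' b),
      (seq (k + 1)).1 (D.Vinv y) = hatV S' hg π' s' ⟨_, hy⟩ := fun k => (hnx (seq k).1 (seq k).2).2
  let H : ℕ → Matrix (Fin r) (Fin r') W := fun k => homMat ((seq (k + 1)).1 - (seq k).1) π s'
  let B : Matrix (Fin r') (Fin r') W := Matrix.of fun m j => s' (D'.F (gen π' m)) j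
  have hHW : ∀ k i j, InW b (H k i j) := fun k i j => hu'.inW_coord s'
    (show u' ((seq (k + 1)).1 (gen π i) - (seq k).1 (gen π i)) = 0 by
      rw [map_sub, (seq (k + 1)).2, (seq k).2, sub_self]) j
  have hdiff : ∀ k, H (k + 1) = mat Vs π s 0 * ((H k).map (fun x => x.shift 1) * B) := by
    intro k
    set Y := (H k).map (fun x => x.shift 1) * B with hY
    have key : ∀ (x : P) (j : Fin r'), s' (((seq (k + 2)).1 - (seq (k + 1)).1) x) j =
        ∑ l, coord σ s (Vs x) l * Y l j := by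
      intro x
      have hx : x ∈ Submodule.span W (Set.range D.Vinv) := D.span_range_Vinv ▸ Submodule.mem_top
      induction hx using Submodule.span_induction with
      | zero => intro j; simp
      | add x y _ _ hx hy =>
        intro j
        simp only [map_add, Pi.add_apply, hx, hy, add_mul, Finset.sum_add_distrib]
      | smul c x _ hx =>
        intro j
        simp only [map_smul, Pi.smul_apply, smul_eq_mul, hx, Finset.mul_sum, mul_assoc]
      | mem x hx =>
        obtain ⟨y, rfl⟩ := hx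
        intro j
        have hy1 := hVs.app_smul_Vinv 1 y
        rw [one_smul] at hy1
        have hz : ∀ m, InW b (s' (((seq (k + 1)).1 - (seq k).1) (y : P)) m) := fun m => by
          rw [map_hom_eq h]
          exact inW_sum _ fun l _ => inW_mul _ (hHW k l m)
        have hq1 := hQ _ (seq (k + 1)).2 _ y.2
        have hq0 := hQ _ (seq k).2 _ y.2
        rw [LinearMap.sub_apply, hseq (k + 1) y hq1, hseq k y hq0, ← map_sub, hatV_inW S' hg h' _ hz,
          map_sum, Finset.sum_apply, hy1]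
        simp only [coord_tmul, one_mul, map_smul, Pi.smul_apply, smul_eq_mul]
        have e : ∀ m, (s' (((seq (k + 1)).1 - (seq k).1) (y : P)) m).shift 1 =
            ∑ l, σ (s (y : P) l) * (H k l m).shift 1 := fun m => by
          rw [map_hom_eq h, shift_sum hg _ (fun l => inW_mul _ (hHW k l m))]
          exact Finset.sum_congr rfl fun l _ => shift_mul hg (hHW k l m 0) _
        simp only [AddSubgroupClass.coe_sub, ← LinearMap.sub_apply, e, hY, B, Matrix.mul_apply, Matrix.map_apply,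
          Matrix.of_apply, Finset.mul_sum, Finset.sum_mul, mul_assoc]
        exact Finset.sum_comm
    refine Matrix.ext fun i j => ?_
    rw [Matrix.mul_apply]
    simp only [mat, Matrix.of_apply, Dieu.vSharpPow_zero_apply, coord_castHom]
    exact key (gen π i) j
  have hstep : ∀ k, ∃ Y : Matrix (Fin r) (Fin r') W, (∀ i j, InW b (Y i j)) ∧ H (k + 1) = mat Vs π s k * Y := by
    have hinW : ∀ Y : Matrix (Fin r) (Fin r') W, (∀ i j, InW b (Y i j)) →
        ∀ i j, InW b (((Y.map fun x => x.shift 1) * B) i j) := fun Y hY i j => by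
      rw [Matrix.mul_apply]
      exact inW_sum _ fun l _ => inW_mul_right _ (inW_shift (hY i l))
    intro k
    induction k with
    | zero => exact ⟨_, hinW _ (hHW 0), hdiff 0⟩
    | succ k ih =>
      obtain ⟨Y, hY, hXY⟩ := ih
      refine ⟨_, hinW Y hY, ?_⟩
      have e1 : (H (k + 1)).map (fun x => x.shift 1) = (mat Vs π s k).map σ * Y.map (fun x => x.shift 1) := by
        refine Matrix.ext fun i j => ?_
        rw [Matrix.map_apply, hXY, Matrix.mul_apply, Matrix.mul_apply,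
          shift_sum hg _ (fun l => inW_mul _ (hY l j))]
        exact Finset.sum_congr rfl fun l _ => shift_mul hg (hY l j 0) _
      rw [hdiff (k + 1), e1, mat_succ h]
      simp only [Matrix.mul_assoc]
  obtain ⟨k, hk⟩ := exists_JV_pow_mul_eq_zero hg hp0
  obtain ⟨M, hM⟩ := exists_mat_mem h hnil k
  obtain ⟨Y, hY, hXY⟩ := hstep M
  have hzero : H (M + 1) = 0 := Matrix.ext fun i j => by
    rw [hXY, Matrix.mul_apply]
    exact Finset.sum_eq_zero fun l _ => hk _ (Ideal.pow_le_pow_right (Nat.le_succ k) (hM i l)) _ (hY l j)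
  have hfix : (seq (M + 1 + 1)).1 = (seq (M + 1)).1 := by
    refine sub_eq_zero.1 (LinearMap.ext fun x => ?_)
    rw [← sum_smul_gen h' (((seq (M + 1 + 1)).1 - (seq (M + 1)).1) x)]
    refine Finset.sum_eq_zero fun j _ => ?_
    rw [map_hom_eq h, Finset.sum_eq_zero (fun l _ => by rw [show homMat _ π s' l j = H (M + 1) l j from rfl, hzero,
      Matrix.zero_apply, mul_zero]), zero_smul]
  set ψ := (seq (M + 1)).1 with hψdef
  have hψl : IsLift ψ := (seq (M + 1)).2
  have hψV : ∀ (y : D.Q) (hy : ψ y ∈ hatQ S' s' b), ψ (D.Vinv y) = hatV S' hg π' s' ⟨ψ y, hy⟩ := fun y hy => by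
    conv_lhs => rw [← hfix]
    exact hseq (M + 1) y hy
  have hψF : ∀ x, ψ (D.F x) = D'.F (ψ x) := fun x => by
    have m := mem_Q_smul D (W4c1extbt610.verschiebung_mem_IV p R 1) x
    have m' : verschiebung (1 : W) • ψ x ∈ hatQ S' s' b :=
      mem_hatQ_of_mem S' (mem_Q_smul D' (W4c1extbt610.verschiebung_mem_IV p R _) _)
    rw [← one_smul W (D.F x), ← Vinv_V_smul D 1 x m, hψV ⟨_, m⟩ (hQ _ hψl _ m), ← one_smul W (D'.F (ψ x)),
      ← hatV_V_smul S' hg h' 1 (ψ x) m']
    exact congrArg _ (Subtype.ext (map_smul ψ _ _))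
  obtain ⟨N, hN⟩ := exists_pow_mem_IV (R := R) hp0
  have hmem : ∀ y ∈ D.Q, (p : W) ^ N • ψ y ∈ D'.Q := fun y _ => mem_Q_smul D' hN _
  refine ⟨N, (p : W) ^ N • ψ, ⟨fun y hy => hmem y hy, fun x => ?_, fun y => ?_⟩, fun x => ?_⟩
  · simp only [LinearMap.smul_apply, hψF, map_smulₛₗ, map_pow, map_natCast]
  · have hy := hQ ψ hψl _ y.2
    show (p : W) ^ N • ψ (D.Vinv y) = _
    refine ((congrArg _ (hψV y hy)).trans ?_).trans (hatV_eq_Vinv S' hg h' (hmem _ y.2)
      (mem_hatQ_of_mem S' (hmem _ y.2)))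
    rw [show (⟨_, mem_hatQ_of_mem S' (hmem _ y.2)⟩ : hatQ S' s' b) = (p : W) ^ N • ⟨ψ y, hy⟩ from rfl, map_smulₛₗ,
      map_pow, map_natCast]
  · rw [LinearMap.smul_apply, map_smulₛₗ, map_pow, map_natCast, hψl]

end Groth.Agent.DispRigid
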