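import Groth.Agent.DispTwenty.Nilp

/-!
# Witt vectors along a square zero ideal
-/

set_option autoImplicit false
set_option linter.style.haveILetI false
universe u

namespace Groth.Agent.DispRigid

open WittVector

variable (p : ℕ) [hp : Fact p.Prime] {R : Type u} [CommRing R]

/-- The universal ring with two square zero elements. -/
abbrev U2 (k : Type) [CommRing k] := TrivSqZeroExt k (k × k)

theorem u2_pow (x : ℤ × ℤ) {n : ℕ} (hn : 2 ≤ n) : (TrivSqZeroExt.inr x : U2 ℤ) ^ n = 0 := by
  obtain ⟨m, rfl⟩ := Nat.exists_eq_add_of_le hn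
  rw [pow_add, pow_two, TrivSqZeroExt.inr_mul_inr, zero_mul]

theorem ghost_inj : Function.Injective (ghostMap : WittVector p (U2 ℤ) → ℕ → U2 ℤ) := by
  let ι : U2 ℤ →+* U2 ℚ :=
    { toFun := fun x => TrivSqZeroExt.inl (x.fst : ℚ) + TrivSqZeroExt.inr ((x.snd.1 : ℚ), (x.snd.2 : ℚ))
      map_one' := by ext <;> simp
      map_mul' := fun x y => by ext <;> simp [mul_comm]
      map_zero' := by ext <;> simp
      map_add' := fun x y => by ext <;> simp }
  have hι : Function.Injective ι := fun x y h => by
    have h1 := congrArg TrivSqZeroExt.fst h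
    have h2 := congrArg TrivSqZeroExt.snd h
    simp [ι] at h1 h2
    exact TrivSqZeroExt.ext h1 (Prod.ext h2.1 h2.2)
  haveI : Invertible ((p : ℕ) : U2 ℚ) :=
    { invOf := TrivSqZeroExt.inl ((p : ℚ)⁻¹)
      invOf_mul_self := by
        rw [← TrivSqZeroExt.inl_natCast, ← TrivSqZeroExt.inl_mul, inv_mul_cancel₀ (Nat.cast_ne_zero.2 hp.out.ne_zero),
          TrivSqZeroExt.inl_one]
      mul_invOf_self := by
        rw [← TrivSqZeroExt.inl_natCast, ← TrivSqZeroExt.inl_mul, mul_inv_cancel₀ (Nat.cast_ne_zero.2 hp.out.ne_zero),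
          TrivSqZeroExt.inl_one] }
  intro x y h
  refine WittVector.map_injective ι hι ((ghostMap.bijective_of_invertible p (U2 ℚ)).1 (funext fun n => ?_))
  have key : ∀ z : WittVector p (U2 ℤ), ι (MvPolynomial.aeval z.coeff (wittPolynomial p ℤ n)) =
      MvPolynomial.aeval (WittVector.map ι z).coeff (wittPolynomial p ℤ n) := fun z => by
    rw [MvPolynomial.map_aeval, MvPolynomial.aeval_def, MvPolynomial.coe_eval₂Hom]
    congr 1
    · exact RingHom.ext_int _ _
  have := congrArg ι (congrFun h n)
  simp only [ghostMap_apply, ghostComponent_apply] at this ⊢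
  exact (key x).symm.trans (this.trans (key y))

theorem exists_hom {a b : R} (haa : a * a = 0) (hab : a * b = 0) (hbb : b * b = 0) :
    ∃ f : U2 ℤ →+* R, f (TrivSqZeroExt.inr (1, 0)) = a ∧ f (TrivSqZeroExt.inr (0, 1)) = b := by
  refine ⟨{ toFun := fun x => (x.fst : R) + (x.snd.1 : R) * a + (x.snd.2 : R) * b
            map_one' := by simp
            map_mul' := fun x y => by
              simp [TrivSqZeroExt.snd_mul]
              linear_combination (-((x.snd.1 : R) * y.snd.1)) * haa + (-((x.snd.1 : R) * y.snd.2 + (x.snd.2 : R) * y.snd.1)) * hab +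
                (-((x.snd.2 : R) * y.snd.2)) * hbb
            map_zero' := by simp
            map_add' := fun x y => by simp; ring }, ?_, ?_⟩ <;> simp

theorem teichmuller_add {a b : R} (haa : a * a = 0) (hab : a * b = 0) (hbb : b * b = 0) :
    teichmuller p (a + b) = teichmuller p a + teichmuller p b := by
  obtain ⟨f, rfl, rfl⟩ := exists_hom haa hab hbb
  rw [← map_add, ← map_teichmuller, ← map_teichmuller, ← map_teichmuller, ← map_add]
  congr 1
  refine ghost_inj p (funext fun n => ?_)
  simp only [ghostMap_apply, map_add, ghostComponent_teichmuller]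
  rcases Nat.eq_zero_or_pos n with rfl | hn
  · simp
  · have h2 : 2 ≤ p ^ n := le_trans hp.out.two_le (Nat.le_self_pow hn.ne' p)
    rw [← TrivSqZeroExt.inr_add, u2_pow _ h2, u2_pow _ h2, u2_pow _ h2, add_zero]

theorem map_frobenius_any {A : Type} [CommRing A] (f : A →+* R) (z : WittVector p A) :
    WittVector.map f (frobenius z) = frobenius (WittVector.map f z) := by
  ext n
  rw [map_coeff, coeff_frobenius, coeff_frobenius, MvPolynomial.map_aeval, MvPolynomial.aeval_def,
    MvPolynomial.coe_eval₂Hom]
  congr 1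
  · exact RingHom.ext_int _ _

theorem frobenius_teichmuller_eq_zero {a : R} (haa : a * a = 0) : frobenius (teichmuller p a) = 0 := by
  obtain ⟨f, ha, -⟩ := exists_hom (b := a) haa haa haa
  rw [← ha, ← map_teichmuller, ← map_frobenius_any]
  have : frobenius (teichmuller p (TrivSqZeroExt.inr (1, 0) : U2 ℤ)) = 0 := by
    refine ghost_inj p (funext fun n => ?_)
    simp only [ghostMap_apply, map_zero, WittVector.ghostComponent_frobenius, ghostComponent_teichmuller]
    exact u2_pow _ (le_trans hp.out.two_le (Nat.le_self_pow (Nat.succ_ne_zero n) p))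
  rw [this, map_zero]

variable {p}

theorem eq_teichmuller_add (x : WittVector p R) : x = teichmuller p (x.coeff 0) + verschiebung (x.shift 1) := by
  ext n
  rw [coeff_add_of_disjoint]
  · cases n with
    | zero => simp [teichmuller_coeff_zero]
    | succ n => simp [teichmuller_coeff_pos, shift_coeff, add_comm]
  · intro n
    cases n with
    | zero => exact Or.inr (verschiebung_coeff_zero _)
    | succ n => exact Or.inl (teichmuller_coeff_pos _ _ _ (Nat.succ_pos n))

theorem shift_eq {x y : WittVector p R} {c : R} (h : x = teichmuller p c + verschiebung y) : x.shift 1 = y := by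
  have h0 : x.coeff 0 = c := by
    show (constantCoeff : WittVector p R →+* R) x = c
    rw [h, map_add, show (constantCoeff : WittVector p R →+* R) (verschiebung y) = 0 from verschiebung_coeff_zero y,
      add_zero]
    exact teichmuller_coeff_zero p c
  have := eq_teichmuller_add x
  rw [h0] at this
  exact verschiebung_injective p R (add_left_cancel (this.symm.trans h))

theorem mul_teichmuller_eq {a : R} (haa : a * a = 0) (w : WittVector p R) :
    w * teichmuller p a = teichmuller p (w.coeff 0 * a) := by
  conv_lhs => rw [eq_teichmuller_add w]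
  rw [add_mul, ← map_mul, ← verschiebung_mul_frobenius, frobenius_teichmuller_eq_zero p haa, mul_zero, map_zero,
    add_zero]

variable {b : Ideal R} (hb : ∀ x ∈ b, ∀ y ∈ b, x * y = 0)
include hb

theorem shift_add {x y : WittVector p R} (hx : x.coeff 0 ∈ b) (hy : y.coeff 0 ∈ b) :
    (x + y).shift 1 = x.shift 1 + y.shift 1 := by
  refine shift_eq (c := x.coeff 0 + y.coeff 0) ?_
  rw [teichmuller_add p (hb _ hx _ hx) (hb _ hx _ hy) (hb _ hy _ hy), map_add]
  conv_lhs => rw [eq_teichmuller_add x, eq_teichmuller_add y]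
  abel

theorem shift_mul {x : WittVector p R} (hx : x.coeff 0 ∈ b) (w : WittVector p R) :
    (w * x).shift 1 = frobenius w * x.shift 1 := by
  refine shift_eq (c := w.coeff 0 * x.coeff 0) ?_
  conv_lhs => rw [eq_teichmuller_add x]
  rw [mul_add, mul_teichmuller_eq (hb _ hx _ hx), DispTwenty.verschiebung_frobenius_mul]

theorem pow_mul_eq_zero {N : ℕ} (hN : (p : R) ^ N = 0) {x : WittVector p R} (hx : ∀ i, x.coeff i ∈ b) :
    (p : WittVector p R) ^ N * x = 0 := by
  have hc : ∀ (n : ℕ) (x : WittVector p R), (∀ i, x.coeff i ∈ b) → ((p : WittVector p R) ^ N * x).coeff n = 0 := by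
    intro n
    induction n using Nat.strong_induction_on with
    | _ n ih =>
      intro x hx
      rw [eq_teichmuller_add x, mul_add, mul_teichmuller_eq (hb _ (hx 0) _ (hx 0)),
        show ((p : WittVector p R) ^ N).coeff 0 = 0 by
          show (constantCoeff : WittVector p R →+* R) ((p : WittVector p R) ^ N) = 0
          rw [map_pow, map_natCast, hN],
        zero_mul, WittVector.teichmuller_zero, zero_add, ← Nat.cast_pow, ← DispTwenty.verschiebung_natCast_mul, Nat.cast_pow]
      cases n with
      | zero => exact verschiebung_coeff_zero _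
      | succ n =>
        rw [verschiebung_coeff_succ]
        exact ih n n.lt_succ_self _ fun i => by rw [shift_coeff]; exact hx _
  exact WittVector.ext fun n => by rw [hc n x hx, zero_coeff]

theorem exists_JV_pow_mul_eq_zero (hp : IsNilpotent (p : R)) :
    ∃ k : ℕ, ∀ w ∈ DispTwenty.JV p R ^ k, ∀ x : WittVector p R, (∀ i, x.coeff i ∈ b) → w * x = 0 := by
  obtain ⟨N, hN⟩ := hp
  have hN' : (p : WittVector p R) ^ N ∈ W4c1extbt610.IV p R := DispTwenty.mem_IV_of_coeff_zero (by
    show (constantCoeff : WittVector p R →+* R) ((p : WittVector p R) ^ N) = 0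
    rw [map_pow, map_natCast, hN])
  refine ⟨N * (N + 1), fun w hw x hx => ?_⟩
  rw [pow_mul] at hw
  have h1 := Ideal.mul_le_left (DispTwenty.IV_pow_le N (Ideal.pow_right_mono (DispTwenty.JV_pow_le hN') _ hw))
  obtain ⟨a, rfl⟩ := Ideal.mem_span_singleton'.1 h1
  rw [mul_assoc, pow_mul_eq_zero hb hN hx, mul_zero]

end Groth.Agent.DispRigid
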